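import Mathlib

/-!
# The jacobian ideal of a degenerate quadratic singularity in characteristic two
-/

set_option autoImplicit false

universe u

open MvPowerSeries Finsupp

namespace Groth.Agent.QuadPS

variable {k : Type u} [Field k] {σ : Type} [Fintype σ] [DecidableEq σ]

/-- a series supported above finitely many monomials lies in the ideal they generate -/
theorem mem_span_monomials (D : Finset (σ →₀ ℕ)) : ∀ h : MvPowerSeries σ k,
    (∀ d, coeff d h ≠ 0 → ∃ e ∈ D, e ≤ d) → h ∈ Ideal.span ((fun e => monomial e (1 : k)) '' (D : Set (σ →₀ ℕ))) := by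
  induction D using Finset.induction_on with
  | empty =>
    intro h hh
    rw [show h = 0 from MvPowerSeries.ext fun d => by
      by_contra hne
      obtain ⟨e, he, -⟩ := hh d (by simpa using hne)
      exact absurd he (Finset.notMem_empty e)]
    exact Submodule.zero_mem _
  | insert a D _ ih =>
    intro h hh
    let q : MvPowerSeries σ k := fun d => coeff (d + a) h
    have hq : ∀ d, coeff d (monomial a 1 * q) = if a ≤ d then coeff d h else 0 := fun d => by
      rw [coeff_monomial_mul]
      split_ifs with hd
      · rw [one_mul]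
        show coeff (d - a + a) h = _
        rw [tsub_add_cancel_of_le hd]
      · rfl
    rw [Finset.coe_insert, Set.image_insert_eq, Ideal.span_insert,
      show h = monomial a 1 * q + (h - monomial a 1 * q) by ring]
    refine add_mem (Ideal.mem_sup_left (Ideal.mem_span_singleton.2 ⟨q, rfl⟩)) (Ideal.mem_sup_right (ih _ fun d hd => ?_))
    rw [map_sub, hq] at hd
    split_ifs at hd with hle
    · exact absurd (sub_self _) hd
    · rw [sub_zero] at hd
      obtain ⟨e, he, hed⟩ := hh d hd
      rcases Finset.mem_insert.1 he with rfl | he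
      · exact absurd hed hle
      · exact ⟨e, he, hed⟩

variable {τ : Type} [Fintype τ] [DecidableEq τ]

/-- the ideal `(x₀², x_j)` -/
noncomputable def I₀ (k : Type u) [Field k] (τ : Type) : Ideal (MvPowerSeries (Option τ) k) :=
  Ideal.span ({X none ^ 2} ∪ Set.range fun j : τ => (X (some j) : MvPowerSeries (Option τ) k))

theorem mem_I₀ (h : MvPowerSeries (Option τ) k) :
    h ∈ I₀ k τ ↔ coeff 0 h = 0 ∧ coeff (single none 1) h = 0 := by
  constructor
  · intro hh
    refine Submodule.span_induction (fun x hx => ?_) (by simp) (fun a b _ _ ha hb => ?_) (fun a b _ hb => ?_) hh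
    · rcases hx with rfl | ⟨j, rfl⟩
      · simp [coeff_X_pow, single_eq_single_iff, eq_comm (a := (0 : Option τ →₀ ℕ)), single_eq_zero]
      · simp [coeff_X, single_eq_single_iff, eq_comm (a := (0 : Option τ →₀ ℕ)), single_eq_zero]
    · exact ⟨by rw [map_add, ha.1, hb.1, add_zero], by rw [map_add, ha.2, hb.2, add_zero]⟩
    · rw [smul_eq_mul]
      constructor
      · rw [coeff_mul, Finset.sum_eq_zero]
        intro x hx
        rw [show x.2 = 0 from (add_eq_zero.1 (Finset.HasAntidiagonal.mem_antidiagonal.1 hx)).2, hb.1, mul_zero]
      · rw [coeff_mul, Finset.sum_eq_zero]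
        intro x hx
        rw [Finsupp.antidiagonal_single] at hx
        obtain ⟨⟨i, j⟩, hij, rfl⟩ := Finset.mem_map.1 hx
        have : j = 0 ∨ j = 1 := by have := Finset.HasAntidiagonal.mem_antidiagonal.1 hij; omega
        rcases this with rfl | rfl
        · show _ * coeff (single none 0) b = 0
          rw [single_zero, hb.1, mul_zero]
        · show _ * coeff (single none 1) b = 0
          rw [hb.2, mul_zero]
  · rintro ⟨h0, h1⟩
    refine Ideal.span_mono ?_ (mem_span_monomials (insert (single none 2) (Finset.univ.image fun j : τ => single (some j) 1)) h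
      fun d hd => ?_)
    · rintro _ ⟨e, he, rfl⟩
      simp only [Finset.coe_insert, Finset.coe_image, Finset.coe_univ, Set.image_univ, Set.mem_insert_iff] at he
      rcases he with rfl | ⟨j, rfl⟩
      · exact Or.inl (X_pow_eq none 2).symm
      · exact Or.inr ⟨j, rfl⟩
    · by_cases hj : ∃ j, d (some j) ≠ 0
      · obtain ⟨j, hj⟩ := hj
        exact ⟨single (some j) 1, by simp, single_le_iff.2 (Nat.one_le_iff_ne_zero.2 hj)⟩
      · push Not at hj
        have hd' : d = single none (d none) := Finsupp.ext fun v => by cases v <;> simp [hj]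
        refine ⟨single none 2, by simp, single_le_iff.2 ?_⟩
        by_contra hlt
        rw [hd'] at hd
        rcases (by omega : d none = 0 ∨ d none = 1) with e | e <;> rw [e] at hd
        · exact hd (by rw [single_zero]; exact h0)
        · exact hd h1

/-- low coefficients zero: in `m · I₀` -/
theorem mem_mul (h : MvPowerSeries (Option τ) k) (hlow : ∀ d : Option τ →₀ ℕ, d.degree < 2 → coeff d h = 0)
    (h2 : coeff (single none 2) h = 0) :
    h ∈ IsLocalRing.maximalIdeal (MvPowerSeries (Option τ) k) * I₀ k τ := by
  let D : Finset (Option τ →₀ ℕ) :=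
    insert (single none 3) ((Finset.univ ×ˢ Finset.univ).image fun x : Option τ × τ => single x.1 1 + single (some x.2) 1)
  have hm : ∀ v : Option τ, (X v : MvPowerSeries (Option τ) k) ∈ IsLocalRing.maximalIdeal _ := fun v => by
    rw [IsLocalRing.mem_maximalIdeal, mem_nonunits_iff, MvPowerSeries.isUnit_iff_constantCoeff, constantCoeff_X]
    exact not_isUnit_zero
  refine Ideal.span_le.2 ?_ (mem_span_monomials D h fun d hd => ?_)
  · rintro _ ⟨e, he, rfl⟩
    simp only [D, Finset.coe_insert, Finset.coe_image, Set.mem_insert_iff, Set.mem_image] at he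
    rcases he with rfl | ⟨x, -, rfl⟩
    · rw [SetLike.mem_coe]
      dsimp only
      rw [← X_pow_eq, pow_succ']
      exact Ideal.mul_mem_mul (hm none) (Ideal.subset_span (Or.inl rfl))
    · rw [SetLike.mem_coe]
      show monomial (single x.1 1 + single (some x.2) 1) (1 : k) ∈ _
      rw [show (monomial (single x.1 1 + single (some x.2) 1) (1 : k)) = X x.1 * X (some x.2) from by
        rw [X_def, X_def, monomial_mul_monomial, one_mul]]
      exact Ideal.mul_mem_mul (hm _) (Ideal.subset_span (Or.inr ⟨_, rfl⟩))
  · have hdeg : 2 ≤ d.degree := by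
      by_contra hlt
      exact hd (hlow d (by omega))
    by_cases hj : ∃ j, d (some j) ≠ 0
    · obtain ⟨j, hj⟩ := hj
      obtain ⟨d', rfl⟩ : ∃ d', d = single (some j) 1 + d' :=
        le_iff_exists_add.1 (single_le_iff.2 (Nat.one_le_iff_ne_zero.2 hj))
      obtain ⟨v, hv⟩ : ∃ v, d' v ≠ 0 := by
        by_contra hne
        push Not at hne
        rw [show d' = 0 from Finsupp.ext hne, add_zero, degree_single] at hdeg
        omega
      refine ⟨single v 1 + single (some j) 1, by simp [D], ?_⟩
      rw [add_comm]
      exact add_le_add le_rfl (single_le_iff.2 (Nat.one_le_iff_ne_zero.2 hv))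
    · push Not at hj
      have hd' : d = single none (d none) := Finsupp.ext fun v => by cases v <;> simp [hj]
      refine ⟨single none 3, by simp [D], single_le_iff.2 ?_⟩
      rw [hd', degree_single] at hdeg
      by_contra hlt
      rw [hd', show d none = 2 by omega] at hd
      exact hd h2

theorem span_eq [CharP k 2] (f : MvPowerSeries (Option τ) k) (ρ : τ ≃ τ) (hρ : ∀ i, ρ i ≠ i)
    (h0 : ∀ d : Option τ →₀ ℕ, d.degree < 2 → coeff d f = 0)
    (hsq : coeff (single none 2) f = 1)
    (hmix : ∀ j, coeff (single (some j) 1 + single none 1) f = 0)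
    (hpair : ∀ i j : τ, coeff (single (some i) 1 + single (some j) 1) f = if i = ρ j then 1 else 0) :
    Ideal.span ({f} ∪ Set.range fun i : Option τ => pderiv k i f) = I₀ k τ := by
  refine le_antisymm (Ideal.span_le.2 ?_) ?_
  · rintro _ (rfl | ⟨i, rfl⟩)
    · exact (mem_I₀ _).2 ⟨h0 _ (by simp), h0 _ (by simp [degree_single])⟩
    · refine (mem_I₀ _).2 ⟨?_, ?_⟩
      · rw [coeff_pderiv, zero_add, h0 _ (by simp [degree_single]), zero_mul]
      · rw [coeff_pderiv]
        cases i with
        | none =>
          rw [← single_add, hsq, one_mul, single_eq_same]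
          simpa [one_add_one_eq_two] using (CharTwo.two_eq_zero : (2 : k) = 0)
        | some j => rw [add_comm, hmix, zero_mul]
  · have hfg : (I₀ k τ).FG := Submodule.fg_span ((Set.finite_singleton _).union (Set.finite_range _))
    refine Submodule.le_of_le_smul_of_le_jacobson_bot hfg (IsLocalRing.maximalIdeal_le_jacobson ⊥) ?_
    have hf : f ∈ Ideal.span ({f} ∪ Set.range fun i : Option τ => pderiv k i f) ⊔
        IsLocalRing.maximalIdeal (MvPowerSeries (Option τ) k) • I₀ k τ := Ideal.mem_sup_left (Ideal.subset_span (Or.inl rfl))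
    have hsq' : X none ^ 2 ∈ Ideal.span ({f} ∪ Set.range fun i : Option τ => pderiv k i f) ⊔
        IsLocalRing.maximalIdeal (MvPowerSeries (Option τ) k) • I₀ k τ := by
      rw [show (X none ^ 2 : MvPowerSeries (Option τ) k) = f - (f - X none ^ 2) by ring]
      refine sub_mem hf (Ideal.mem_sup_right (mem_mul _ (fun d hd => ?_) ?_))
      · rw [map_sub, h0 d hd, coeff_X_pow, if_neg, sub_zero]
        rintro rfl
        rw [degree_single] at hd
        omega
      · rw [map_sub, hsq, coeff_X_pow, if_pos rfl, sub_self]
    refine Ideal.span_le.2 ?_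
    rintro _ (rfl | ⟨j, rfl⟩)
    · exact hsq'
    · obtain ⟨g, hg⟩ : ∃ g, g = pderiv k (some (ρ j)) f := ⟨_, rfl⟩
      show X (some j) ∈ _
      rw [show (X (some j) : MvPowerSeries (Option τ) k) =
        g - (g - X (some j) - C (coeff (single none 2) g) * X none ^ 2) -
          C (coeff (single none 2) g) * X none ^ 2 by ring]
      refine sub_mem (sub_mem (Ideal.mem_sup_left (Ideal.subset_span (Or.inr ⟨_, hg.symm⟩)))
        (Ideal.mem_sup_right (mem_mul _ (fun d hd => ?_) ?_))) (Ideal.mul_mem_left _ _ hsq')
      · rw [map_sub, map_sub, coeff_C_mul, coeff_X_pow, if_neg (fun e => by rw [e, degree_single] at hd; omega),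
          mul_zero, sub_zero, hg, coeff_pderiv, sub_eq_zero, coeff_X]
        by_cases hd0 : d = 0
        · subst hd0
          rw [zero_add, h0 _ (by simp [degree_single]), zero_mul, if_neg]
          exact fun e => one_ne_zero (single_eq_zero.1 e.symm)
        obtain ⟨v, hv⟩ : ∃ v, d v ≠ 0 := by
          by_contra hne
          push Not at hne
          exact hd0 (Finsupp.ext hne)
        obtain ⟨d', rfl⟩ : ∃ d', d = single v 1 + d' :=
          le_iff_exists_add.1 (single_le_iff.2 (Nat.one_le_iff_ne_zero.2 hv))
        rw [map_add, degree_single] at hd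
        have hd'0 : d' = 0 := (degree_eq_zero_iff d').1 (by omega)
        subst hd'0
        rw [add_zero]
        cases v with
        | none =>
          rw [add_comm, hmix, zero_mul, if_neg]
          exact fun e => absurd ((single_left_inj one_ne_zero).1 e) (by simp)
        | some i =>
          rw [add_comm (single (some i) 1), hpair]
          by_cases hij : i = j
          · subst hij
            rw [if_pos rfl, if_pos rfl, one_mul]
            have hfix : single (some i) 1 (some (ρ i)) = (0 : ℕ) :=
              single_eq_of_ne (fun e => hρ i (Option.some_injective _ e))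
            rw [hfix, Nat.cast_zero, zero_add]
          · rw [if_neg fun e => hij (ρ.injective e).symm, zero_mul, if_neg]
            exact fun e => hij (Option.some_injective _ ((single_left_inj one_ne_zero).1 e))
      · rw [map_sub, map_sub, coeff_C_mul, coeff_X_pow, if_pos rfl, mul_one, coeff_X, if_neg, sub_zero, sub_self]
        exact fun e => absurd ((single_eq_single_iff _ _ _ _).1 e) (by simp)

end Groth.Agent.QuadPS
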